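import Cfsg.Agent.Lib.Chev.Om.Conc
import Cfsg.Agent.Lib.Chev.Om.Pf
import Cfsg.Agent.Lib.Chev.Tab.D4

/-! The tables of the natural module of type D₄. -/

set_option autoImplicit false
set_option maxRecDepth 1000000

namespace Cfsg.Agent.Lib.Chev.Om

open Cfsg Cfsg.Lie

/-- The tables of the natural module of type D₄. -/
def mtD4 : MT where
  dim := 8
  bet a b := if a < 8 ∧ b < 8 ∧ (a + 4 = b ∨ b + 4 = a) then 1 else 0
  kap _ := 0
  xx r := [4, 4, 4, 4, 4, 4, 5, 5, 5, 5, 6, 6, 2, 2, 1, 1, 1, 1, 0, 0, 0, 0, 0, 0].getD r 0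
  yy r := [5, 6, 3, 7, 2, 1, 6, 3, 7, 2, 3, 7, 3, 7, 6, 3, 7, 2, 5, 6, 3, 7, 2, 1].getD r 0
  ss r := [-1, 1, -1, -1, -1, -1, 1, -1, -1, -1, -1, -1, 1, 1, 1, 1, 1, -1, 1, 1, 1, 1, -1, 1].getD r 0

theorem d4c1 : chkX 24 mtD4 = true := by decide +kernel
theorem d4c2 : chkR2 TabD4.fd.tbl mtD4 = true := by decide +kernel
theorem d4c3 : chkR3 TabD4.fd.tbl mtD4 = true := by decide +kernel
theorem d4c4 : chkRange 24 mtD4 = true := by decide +kernel
theorem d4c5 : chkGen 24 mtD4 = true := by decide +kernel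
theorem d4c6 : chkPerfT TabD4.fd.tbl = true := by decide +kernel

end Cfsg.Agent.Lib.Chev.Om
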